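import Cfsg.Agent.H246.Dl.KTypeMJ_m3
import Cfsg.Agent.H720.PV.Regular
import Cfsg.Agent.H620.PNorm
import Cfsg.Agent.Nodes.CardSup_m3
import Cfsg.Agent.H62.PPIdx
import Cfsg.Agent.H53.HC.ExcIM
import Cfsg.Agent.H62.PPChev
import Cfsg.Agent.S1032
import Cfsg.Agent.FastGrp
import Cfsg.Agent.Prune
set_option linter.all false
prune_inst 0x7f00000000000000000000000000000000000000000000000000000000000000000000000000000000000000000000000000000000000000000000000000000000000000000000000000000000000000003fffffffffffffffffffffffffffbeffbdffffffff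
open scoped Cfsg.Agent.FastGrp

-- part: H526/Van/Tool
section
/-!
# Tool T1 for S4555 and S4559: zeros by fixed points on unipotent radicals (helper526)

* `zero_of_not_hasFix` : an irreducible character without `V`-fixed vectors vanishes at the elements normalising `V`
  without fixed points on `V`;
* `cent_Sup`, `cent_VJ` : torus elements without fixed points on the root groups of a closed set of positive roots have
  no fixed points on the group they generate;
* `vz_of_HT` : `χ` of Harish-Chandra type `K`, `x ∈ P_J` without fixed points on `V_J`; if `|J| < |K|`, or `|J| = |K|` and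
  `|V_J| ≠ |V_K|`, then `x` is a `VZ` element (no knowledge about the automorphisms is needed);
* `vz_of_cusp` : the same from a cuspidal character of `M_K`;
* `vz_of_not_fix` : `χ` without `V_{J'}`-fixed vectors for all `J'` with `|J'| = |J|`, `|V_{J'}| = |V_J|`.
-/

set_option autoImplicit false
set_option linter.unusedSectionVars false

open scoped ComplexConjugate
open Cfsg

namespace Cfsg.Agent.H526.Van

open Cfsg.Agent.OddOrderCharacters.Clifford Cfsg.Agent.Characters
open CoxeterSystem Cfsg.Agent.ChevalleyStructure.CoxeterGeom Cfsg.Agent.Tits.Roots Cfsg.Agent.Tits.Core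
  Cfsg.Agent.Tits.Exchange Cfsg.Agent.Nodes.Reps Cfsg.Agent.Nodes.BNOf Cfsg.Agent.Nodes.StabComb
  Cfsg.Agent.Nodes.Bruhat Cfsg.Agent.Nodes.OppDec Cfsg.Agent.Nodes.LeviDec Cfsg.Agent.H53.HC
  Cfsg.Agent.KFacts.RgdAut Cfsg.Agent.H246.Dl
open scoped Pointwise

section abstract_

/-- **T1.** An irreducible character without nonzero `V`-fixed vectors vanishes at every element normalising `V` without
nontrivial fixed points on `V`. -/
theorem zero_of_not_hasFix {G : Type*} [Group G] {χ : G → ℂ} (hχ : IsIrrCharacter G χ) {V : Subgroup G} [Finite V]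
    (h : ¬ HasFix χ V) {x : G} (hx : ∀ u, u ∈ V ↔ x * u * x⁻¹ ∈ V) (hreg : ∀ u ∈ V, x * u = u * x → u = 1) :
    χ x = 0 := by
  classical
  have : Fintype V := Fintype.ofFinite V
  refine H720.PV.zero_of_regular V hχ ?_ hx hreg
  by_contra h0
  exact h (hasFix_iff.2 h0)

end abstract_

variable {I W Y : Type*} [Fintype I] [DecidableEq I] [Group W] [Group Y] {M : CoxeterMatrix I}
  {cs : CoxeterSystem M W} {A : I → I → ℤ} {h : IsCartan M A} {r : ℕ} {T : Subgroup Y} {n : I → Y}
  {X : (I → ℤ) → Subgroup Y}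

/-! ### fixed points of torus elements -/

section cent

open Cfsg.Agent.Nodes.Unique Cfsg.Agent.Nodes.BNOf.RGD

theorem cent_fut [Finite W] (R : RGD cs h r T n X) (Q : Subgroup Y) (hQT : Q ≤ T) (w : W) {s : Set (I → ℤ)}
    (hS : s ⊆ Fut cs h w) (hc : Closed cs h s)
    (hC : ∀ x ∈ s, ∀ u ∈ X x, (∀ q ∈ Q, q * u = u * q) → u = 1) :
    ∀ u ∈ Sup X s, (∀ q ∈ Q, q * u = u * q) → u = 1 := by
  classical
  induction hn : (Fut cs h w).ncard generalizing w s with
  | zero =>
    have h1 := (Set.ncard_eq_zero (finite_fut w)).1 hn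
    rw [h1, Set.subset_empty_iff] at hS
    subst hS
    intro u hu _
    rw [Sup_empty] at hu
    exact Subgroup.mem_bot.1 hu
  | succ k ih =>
    have hne : (Fut cs h w).Nonempty := by
      rw [Set.nonempty_iff_ne_empty]
      intro h1
      rw [h1, Set.ncard_empty] at hn
      omega
    obtain ⟨y, hy⟩ := hne
    obtain ⟨i, hi⟩ := exists_simple hy
    set x := rep cs h w (sr i) with hxdef
    have hcard : (Fut cs h (w * cs.simple i)).ncard = k := by
      rw [fut_mul hi, Set.ncard_sdiff_singleton_of_mem (mem_fut hi), hn]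
      rfl
    have hsub : s \ {x} ⊆ Fut cs h (w * cs.simple i) := by
      rw [fut_mul hi]
      exact Set.sdiff_subset_sdiff_left hS
    have hcl := closed_diff hi hS hc
    have ih' := ih (w * cs.simple i) hsub hcl (fun z hz => hC z hz.1) hcard
    by_cases hx : x ∈ s
    · intro g hg hq
      have hpos : s ⊆ Pos cs h := hS.trans (fut_subset_pos w)
      obtain ⟨a, ha, b, hb, rfl⟩ := (mem_peel R hpos hc hx).1 hg
      have hroot : IsRoot cs h x := (hpos hx).1
      have hca : ∀ q ∈ Q, q * a = a * q := by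
        intro q hqQ
        have hqT := hQT hqQ
        have e1 : q * a * q⁻¹ ∈ X x := by
          rw [← R.tor x hroot q hqT]
          exact conj_mem_cj.2 ha
        have e2 : q * b * q⁻¹ ∈ Sup X (s \ {x}) :=
          (Subgroup.mem_normalizer_iff.1 (R.T_le_normalizer (S := s \ {x}) (fun y hy => (hpos hy.1).1) hqT) b).1 hb
        have e3 : a⁻¹ * (q * a * q⁻¹) = b * (q * b * q⁻¹)⁻¹ := by
          have h3 := hq q hqQ
          have h4 : q * (a * b) * q⁻¹ = a * b := by rw [h3]; group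
          calc a⁻¹ * (q * a * q⁻¹) = a⁻¹ * (q * (a * b) * q⁻¹) * (q * b * q⁻¹)⁻¹ := by group
            _ = b * (q * b * q⁻¹)⁻¹ := by rw [h4]; group
        have e4 : a⁻¹ * (q * a * q⁻¹) ∈ X x ⊓ Sup X (Fut cs h (w * cs.simple i)) := by
          refine Subgroup.mem_inf.2 ⟨mul_mem (inv_mem ha) e1, ?_⟩
          rw [e3]
          exact Sup_mono hsub (mul_mem hb (inv_mem e2))
        rw [hxdef, tail_inf R, Subgroup.mem_bot] at e4
        have e5 : a = q * a * q⁻¹ := inv_mul_eq_one.1 e4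
        calc q * a = (q * a * q⁻¹) * q := by group
          _ = a * q := by rw [← e5]
      have ha1 : a = 1 := hC x hx a ha hca
      subst ha1
      rw [one_mul] at hq ⊢
      exact ih' b hb hq
    · have hs : s \ {x} = s := Set.sdiff_singleton_eq_self hx
      rw [hs] at ih'
      exact ih'

/-- Torus elements without fixed points on the root groups of a closed set of positive roots. -/
theorem cent_Sup [Finite W] (R : RGD cs h r T n X) (Q : Subgroup Y) (hQT : Q ≤ T) {s : Set (I → ℤ)}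
    (hS : s ⊆ Pos cs h) (hc : Closed cs h s)
    (hC : ∀ x ∈ s, ∀ u ∈ X x, (∀ q ∈ Q, q * u = u * q) → u = 1) :
    ∀ u ∈ Sup X s, (∀ q ∈ Q, q * u = u * q) → u = 1 := by
  rw [← fut_one] at hS
  exact cent_fut R Q hQT 1 hS hc hC

/-- Torus elements without fixed points on the root groups of `V_J` have no fixed points on `V_J`. -/
theorem cent_VJ [Finite W] (R : RGD cs h r T n X) {J : Set I} {t : Y} (ht : t ∈ T)
    (hC : ∀ x ∈ NotJ cs h J, ∀ u ∈ X x, t * u = u * t → u = 1) :
    ∀ u ∈ VJ cs h X J, t * u = u * t → u = 1 := by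
  intro u hu hc
  have hQ : Subgroup.zpowers t ≤ T := by
    rw [Subgroup.zpowers_le]; exact ht
  refine cent_Sup R (Subgroup.zpowers t) hQ (s := NotJ cs h J) (fun x hx => ⟨hx.1, hx.2.1⟩)
    (H62.PPIdx.closed_NotJ J) ?_ u hu ?_
  · intro x hx v hv hcv
    exact hC x hx v hv (hcv t (Subgroup.mem_zpowers t))
  · rintro q ⟨m, rfl⟩
    have h1 : Commute t u := hc
    exact (h1.zpow_left m)

end cent

/-! ### automorphisms -/

/-- if `w` maps the simple roots of `K` into those of `J`, and `|J| ≤ |K|`, then `|V_K| = |V_J|` -/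
theorem card_VJ_of_maps [Finite W] [Finite Y] (R : RGD cs h r T n X) {K J : Set I} {w : W}
    (hw : ∀ i ∈ K, ∃ k ∈ J, rep cs h w (sr i) = sr k) (hc : J.ncard ≤ K.ncard) :
    Nat.card (VJ cs h X K) = Nat.card (VJ cs h X J) := by
  classical
  -- `w` is onto
  have hinj : ∀ i j : I, (sr i : I → ℤ) = sr j → i = j := by
    intro i j e
    by_contra hne
    have h3 := congrFun e i
    rw [sr_self, sr_ne hne] at h3
    exact one_ne_zero h3
  have hsurj : ∀ k ∈ J, ∃ i ∈ K, rep cs h w⁻¹ (sr k) = sr i := by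
    choose! f hf1 hf2 using hw
    have hf : Set.InjOn f K := by
      intro i hi j hj e
      have h1 : rep cs h w (sr i) = rep cs h w (sr j) := by rw [hf2 i hi, hf2 j hj, e]
      have h2 : (sr i : I → ℤ) = sr j := by
        have := congrArg (rep cs h w⁻¹) h1
        rwa [rep_inv_apply, rep_inv_apply] at this
      exact hinj i j h2
    have him : f '' K = J := by
      refine Set.eq_of_subset_of_ncard_le ?_ ?_ (Set.toFinite J)
      · rintro _ ⟨i, hi, rfl⟩
        exact hf1 i hi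
      · rw [hf.ncard_image]
        exact hc
    intro k hk
    rw [← him] at hk
    obtain ⟨i, hi, rfl⟩ := hk
    exact ⟨i, hi, by rw [← hf2 i hi, rep_inv_apply]⟩
  obtain ⟨g, hg⟩ := exists_rp cs R.nsys w
  have hU : ∀ (K J : Set I) (w : W) (g : Y), Rp cs R.nsys w g → (∀ i ∈ K, ∃ k ∈ J, rep cs h w (sr i) = sr k) →
      Nat.card (UJ cs h X K) ≤ Nat.card (UJ cs h X J) := by
    intro K J w g hg hw
    refine card_le_of_cj (g := g) ?_
    refine cj_Sup_le R hg (fun x hx => hx.1) fun x hx => ?_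
    refine ⟨hx.1.act _, ?_, fun k hk => rep_supp hw hx.2.2 k hk⟩
    refine rep_nonneg_of_supp (J := K) (fun i hi => ?_) hx.2.1 hx.2.2
    obtain ⟨k, -, e⟩ := hw i hi
    rw [e]
    exact sr_nonneg k
  have h1 := le_antisymm (hU K J w g hg hw) (hU J K w⁻¹ g⁻¹ hg.inv hsurj)
  have h2 := card_U (T := T) R K
  have h3 := card_U (T := T) R J
  rw [h2, h1] at h3
  exact Nat.eq_of_mul_eq_mul_left (Nat.card_pos (α := UJ cs h X J)) h3

/-- **T1 with all automorphisms.** `χ` irreducible without `V_{J'}`-fixed vectors for all `J'` with `|J'| = |J|` and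
`|V_{J'}| = |V_J|`; then the elements of `P_J` without fixed points on `V_J` are `VZ` elements. -/
theorem vz_of_not_fix [Finite W] [Finite Y] [Fact r.Prime] (R : RGD cs h r T n X) (hG : GG cs h T X = ⊤) {χ : Y → ℂ}
    (hχ : IsIrrCharacter Y χ) {J : Set I}
    (hJ : ∀ J' : Set I, J'.ncard = J.ncard → Nat.card (VJ cs h X J') = Nat.card (VJ cs h X J) →
      Nat.card (PJ cs h T X J') = Nat.card (PJ cs h T X J) → ¬ HasFix χ (VJ cs h X J'))
    {x : Y} (hx : x ∈ PJ cs h T X J) (hreg : ∀ v ∈ VJ cs h X J, x * v = v * x → v = 1) : H713.VZ Y x := by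
  classical
  refine ⟨⟨χ, hχ⟩, fun σ => ?_⟩
  change χ (σ x) = 0
  obtain ⟨g, hg⟩ := exists_fixU R hG σ
  have hB := fix_B R hG hg
  set α : MulAut Y := MulAut.conj g * σ with hα
  set J' := nodes cs h T n X α J with hJ'
  have hP := PJ_nodes R hG hB J
  have hV := map_VJ R hg hP
  have hcP : Nat.card (PJ cs h T X J') = Nat.card (PJ cs h T X J) := by
    rw [hJ', ← hP]
    exact (Nat.card_congr ((PJ cs h T X J).equivMapOfInjective _ (MulEquiv.injective _)).toEquiv).symm
  have hcV : Nat.card (VJ cs h X J') = Nat.card (VJ cs h X J) := by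
    rw [hJ', ← hV]
    exact (Nat.card_congr ((VJ cs h X J).equivMapOfInjective _ (MulEquiv.injective _)).toEquiv).symm
  have hcJ : J'.ncard = J.ncard := by
    apply le_antisymm
    · have h1 := ncard_le_nodes R hG hB.inv J'
      rwa [hJ', nodes_inv R hG hB] at h1
    · exact ncard_le_nodes R hG hB J
  -- the value at `σ x` is the value at `α x`
  have hcl : χ (σ x) = χ (α x) := by
    have := Core.isIrr_isClassFunction hχ (σ x) g
    rw [← this, hα]
    rfl
  rw [hcl]
  have hxP : α x ∈ PJ cs h T X J' := by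
    rw [hJ', ← hP]
    exact ⟨x, hx, rfl⟩
  refine zero_of_not_hasFix hχ (hJ J' hcJ hcV hcP) (fun u => ?_) fun u hu hc => ?_
  · exact Subgroup.mem_normalizer_iff.1 (PJ_le_normalizer_VJ R J' hxP) u
  · rw [hJ', ← hV] at hu
    obtain ⟨v, hv, rfl⟩ := hu
    have h1 : α (x * v) = α (v * x) := by
      rw [map_mul, map_mul]
      exact hc
    have h2 := hreg v hv (α.injective h1)
    rw [h2]
    exact map_one _

/-- **T1 from a Harish-Chandra type.** -/
theorem vz_of_HT [Finite W] [Finite Y] [Fact r.Prime] (R : RGD cs h r T n X) (hG : GG cs h T X = ⊤) {χ : Y → ℂ}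
    {K J : Set I} (hχ : HT cs h X χ K)
    (hKJ : J.ncard < K.ncard ∨ (J.ncard = K.ncard ∧ Nat.card (VJ cs h X J) ≠ Nat.card (VJ cs h X K)))
    {x : Y} (hx : x ∈ PJ cs h T X J) (hreg : ∀ v ∈ VJ cs h X J, x * v = v * x → v = 1) : H713.VZ Y x := by
  refine vz_of_not_fix R hG hχ.irr (fun J' h1 h2 _ hfix => ?_) hx hreg
  obtain ⟨w, hw⟩ := hχ.le J' hfix
  have h4 := (card_le_of_maps R hw).2
  rcases hKJ with h5 | ⟨h5, h6⟩
  · omega
  · apply h6
    rw [← h2]
    exact (card_VJ_of_maps R hw (by omega)).symm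

/-- **T1 from a cuspidal character of `M_K`.** -/
theorem vz_of_cusp [Finite W] [Finite Y] [Fact r.Prime] (R : RGD cs h r T n X) (hG : GG cs h T X = ⊤)
    {K J : Set I} (hK : ∃ θ, H53.HC.Cusp cs h X K θ)
    (hKJ : J.ncard < K.ncard ∨ (J.ncard = K.ncard ∧ Nat.card (VJ cs h X J) ≠ Nat.card (VJ cs h X K)))
    {x : Y} (hx : x ∈ PJ cs h T X J) (hreg : ∀ v ∈ VJ cs h X J, x * v = v * x → v = 1) : H713.VZ Y x := by
  obtain ⟨θ, hθ⟩ := hK
  obtain ⟨χ, hχ⟩ := exists_HT R hG K hθ.irr fun j hj => hθ.van j hj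
  exact vz_of_HT R hG hχ hKJ hx hreg

/-- **T1 for torus elements**, from a cuspidal character of `M_K`. -/
theorem vz_of_torus [Finite W] [Finite Y] [Fact r.Prime] (R : RGD cs h r T n X) (hG : GG cs h T X = ⊤)
    {K J : Set I} (hK : ∃ θ, H53.HC.Cusp cs h X K θ)
    (hKJ : J.ncard < K.ncard ∨ (J.ncard = K.ncard ∧ Nat.card (VJ cs h X J) ≠ Nat.card (VJ cs h X K)))
    {t : Y} (ht : t ∈ T) (hreg : ∀ x ∈ NotJ cs h J, ∀ u ∈ X x, t * u = u * t → u = 1) : H713.VZ Y t :=
  vz_of_cusp R hG hK hKJ (LJ_le_PJ (T_le_LJ ht)) (cent_VJ R ht hreg)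

end Cfsg.Agent.H526.Van
end

-- part: H526/Van/Chev
section
/-!
# T1 for the Chevalley groups (helper526)

* `tor c s` : the torus element `∏ h_i(s^(c i))`; it acts on `X_ρ` by `s ^ ∑ c i A_{iρ}`;
* `card_VJ_eq` : `|V_{ {i}ᶜ }| = q ^ num D i`;
* `vz_tor` : zeros at `tor c s`.
-/

set_option autoImplicit false
set_option linter.unusedSectionVars false

open Cfsg

namespace Cfsg.Agent.H526.Van

open Cfsg.Lie Cfsg.Agent.ChevalleyStructure Cfsg.Agent.ChevalleyStructure.Elts
  Cfsg.Agent.ChevalleyStructure.RootVec Cfsg.Agent.ChevalleyStructure.RootVecTab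
  Cfsg.Agent.ChevalleyStructure.NPerm Cfsg.Agent.ChevalleyStructure.CoxeterGeomTypes
open Cfsg.Agent.Nodes Cfsg.Agent.Nodes.RGDChev Cfsg.Agent.H35.ExcIdx Cfsg.Agent.H62.PPChev
open CoxeterSystem Cfsg.Agent.ChevalleyStructure.CoxeterGeom Cfsg.Agent.Tits.Roots Cfsg.Agent.Tits.Core
  Cfsg.Agent.Tits.Exchange Cfsg.Agent.Nodes.Reps Cfsg.Agent.Nodes.BNOf Cfsg.Agent.Nodes.StabComb
  Cfsg.Agent.Nodes.Bruhat Cfsg.Agent.Nodes.OppDec Cfsg.Agent.Nodes.LeviDec

universe u

variable {D : ChevalleyDatum} {l : ℕ} {M : CoxeterMatrix (Fin l)} (hp : IsType D l M) {K : Type u} [Field K]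

theorem hG_mul_xG {i : ℕ} (hi : i < D.rank) {ρ : ℕ} (hρ : ρ < D.nroots) (hD : InList D) (a : Kˣ) (u : K) :
    hG hD (D.simple i) (a : K) * xG hD ρ u = xG hD ρ (((a ^ D.cartan i ρ : Kˣ) : K) * u) * hG hD (D.simple i) (a : K) := by
  apply Units.ext
  rw [Units.val_mul, Units.val_mul, coe_hG, coe_xG, coe_xG]
  have h1 := Cfsg.Agent.S1032.result (F := K) D hD i ρ hi hρ (a : K) a.ne_zero u
  rw [h1, Units.val_zpow_eq_zpow_val]

/-- `∏ h_i(s^(c i))` -/
def tor (hD : InList D) (c : ℕ → ℤ) (s : Kˣ) : GL D.Idx K :=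
  ((List.range D.rank).map fun i => hG hD (D.simple i) ((s ^ c i : Kˣ) : K)).prod

/-- the exponent of `tor c s` on the root group of `ρ` -/
def expo (D : ChevalleyDatum) (c : ℕ → ℤ) (ρ : ℕ) : ℤ := ((List.range D.rank).map fun i => c i * D.cartan i ρ).sum

/-- the same for a list of nodes -/
def torL (hD : InList D) (L : List ℕ) (c : ℕ → ℤ) (s : Kˣ) : GL D.Idx K :=
  (L.map fun i => hG hD (D.simple i) ((s ^ c i : Kˣ) : K)).prod

theorem torL_mul_xG (hD : InList D) (c : ℕ → ℤ) (s : Kˣ) {ρ : ℕ} (hρ : ρ < D.nroots) :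
    ∀ L : List ℕ, (∀ i ∈ L, i < D.rank) → ∀ u : K,
      torL hD L c s * xG hD ρ u =
      xG hD ρ (((s ^ (L.map fun i => c i * D.cartan i ρ).sum : Kˣ) : K) * u) * torL hD L c s := by
  unfold torL
  intro L
  induction L with
  | nil => intro _ u; simp
  | cons i L ih =>
    intro hL u
    rw [List.map_cons, List.prod_cons, List.map_cons, List.sum_cons, mul_assoc,
      ih (fun j hj => hL j (List.mem_cons_of_mem _ hj)) u, ← mul_assoc,
      hG_mul_xG (hL i List.mem_cons_self) hρ hD (s ^ c i) _, mul_assoc]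
    congr 2
    rw [← zpow_mul, zpow_add, Units.val_mul, mul_assoc]

include hp in
theorem torL_mem_diagonal {L : List ℕ} (hL : ∀ i ∈ L, i < D.rank) (c : ℕ → ℤ) (s : Kˣ) :
    torL hp.inList L c s ∈ D.diagonalSubgroup K := by
  unfold torL
  refine Subgroup.list_prod_mem _ fun x hx => ?_
  obtain ⟨i, hi, rfl⟩ := List.mem_map.1 hx
  exact hG_mem_diagonal hp.inList (simple_lt hp.inList (hL i hi)) (Units.ne_zero _)

theorem tor_mul_xG (hD : InList D) (c : ℕ → ℤ) (s : Kˣ) {ρ : ℕ} (hρ : ρ < D.nroots) (u : K) :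
    tor hD c s * xG hD ρ u = xG hD ρ (((s ^ expo D c ρ : Kˣ) : K) * u) * tor hD c s :=
  torL_mul_xG hD c s hρ (List.range D.rank) (fun i hi => List.mem_range.1 hi) u

include hp in
theorem tor_mem_diagonal (c : ℕ → ℤ) (s : Kˣ) : tor hp.inList c s ∈ D.diagonalSubgroup K := by
  unfold tor
  refine Subgroup.list_prod_mem _ fun x hx => ?_
  obtain ⟨i, hi, rfl⟩ := List.mem_map.1 hx
  exact hG_mem_diagonal hp.inList (simple_lt hp.inList (List.mem_range.1 hi)) (Units.ne_zero _)

/-- the element of the Chevalley group -/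
def torG (c : ℕ → ℤ) (s : Kˣ) : ↥(D.group K) :=
  ⟨tor hp.inList c s, diagonal_le_group hp.inList K (tor_mem_diagonal hp c s)⟩

theorem torG_mem (c : ℕ → ℤ) (s : Kˣ) : torG hp c s ∈ TT D K := by
  rw [Subgroup.mem_subgroupOf]
  exact tor_mem_diagonal hp c s

/-- powers of `tor c s` centralise the group as soon as the power of `s` is trivial -/
theorem torL_pow_comm (hD : InList D) {L : List ℕ} (hL : ∀ i ∈ L, i < D.rank) (c : ℕ → ℤ) (s : Kˣ) {m : ℕ}
    (hm : s ^ m = 1) : ∀ g ∈ D.group K, g * torL hD L c s ^ m = torL hD L c s ^ m * g := by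
  have h1 : ∀ (k : ℕ) {ρ : ℕ} (_ : ρ < D.nroots) (u : K),
      torL hD L c s ^ k * xG hD ρ u =
        xG hD ρ (((s ^ (L.map fun i => c i * D.cartan i ρ).sum : Kˣ) : K) ^ k * u) * torL hD L c s ^ k := by
    intro k ρ hρ
    induction k with
    | zero => intro u; simp
    | succ k ih =>
      intro u
      rw [pow_succ, mul_assoc, torL_mul_xG hD c s hρ L hL u, ← mul_assoc, ih, mul_assoc, ← mul_assoc _ _ u, ← pow_succ]
  have h2 : D.group K ≤ Subgroup.centralizer {torL hD L c s ^ m} := by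
    rw [group_le_iff hD]
    intro ρ hρ u
    rw [Subgroup.mem_centralizer_iff]
    rintro y rfl
    rw [h1 m hρ u]
    congr 2
    have h3 : ((s ^ (L.map fun i => c i * D.cartan i ρ).sum : Kˣ) : K) ^ m = 1 := by
      rw [← Units.val_pow_eq_pow_val, ← zpow_natCast, zpow_comm, zpow_natCast, hm, one_zpow, Units.val_one]
    rw [h3, one_mul]
  intro g hg
  exact ((Subgroup.mem_centralizer_iff.1 (h2 hg)) _ rfl).symm

theorem torG_pow_center (c : ℕ → ℤ) (s : Kˣ) {m : ℕ} (hm : s ^ m = 1) :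
    torG hp c s ^ m ∈ Subgroup.center ↥(D.group K) := by
  rw [Subgroup.mem_center_iff]
  intro g
  apply Subtype.ext
  exact torL_pow_comm hp.inList (fun i hi => List.mem_range.1 hi) c s hm g.1 g.2

include hp in
/-- the order of `V_i` -/
theorem card_VJ_eq [Fintype K] {W : Type*} [Group W] [Finite W] (cs : CoxeterSystem M W) (r : ℕ) [Fact r.Prime] [CharP K r]
    (i : Fin l) : Nat.card (VJ cs hp.isCartan (XX D l K) {i}ᶜ) = Fintype.card K ^ num D i := by
  classical
  have R := rgd (K := K) hp cs r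
  have hfin : (NotJ cs hp.isCartan {i}ᶜ).Finite :=
    (RGD.finite_roots (cs := cs) (h := hp.isCartan)).subset fun _ hx => hx.1
  set s : Finset (Fin l → ℤ) := hfin.toFinset with hs
  have hsc : (s : Set (Fin l → ℤ)) = NotJ cs hp.isCartan {i}ᶜ := hfin.coe_toFinset
  have h3 : Nat.card (VJ cs hp.isCartan (XX D l K) {i}ᶜ) = ∏ x ∈ s, Nat.card ↥(XX D l K x) := by
    have := Cfsg.Agent.Nodes.CardSup.card_sup R (s := s) (by rw [hsc]; exact fun x hx => ⟨hx.1, hx.2.1⟩)
      (by rw [hsc]; exact Cfsg.Agent.H62.PPIdx.closed_NotJ _)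
    rw [← this, hsc]
    rfl
  have h4 : ∏ x ∈ s, Nat.card ↥(XX D l K x) = Fintype.card K ^ s.card := by
    rw [← Finset.prod_const]
    refine Finset.prod_congr rfl fun x hx => card_X hp cs ?_
    have hx' : x ∈ NotJ cs hp.isCartan {i}ᶜ := by rw [← hsc]; exact hx
    exact hx'.1
  rw [h3, h4]
  congr 1
  have h5 : num D i = (((List.range D.nroots).filter fun r => 0 < rt D r i).toFinset).card := by
    rw [List.toFinset_card_of_nodup (List.nodup_range.filter _)]
    rfl
  rw [h5]
  symm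
  refine Finset.card_bij (fun r _ => vec D l r) ?_ ?_ ?_
  · intro r hr
    rw [List.mem_toFinset, List.mem_filter, List.mem_range] at hr
    have hr2 : 0 < rt D r i := by simpa using hr.2
    rw [← Finset.mem_coe, hsc]
    have h6 := isRoot_vec hp cs hr.1
    exact ⟨h6, nonneg_of_pos_apply h6 (k := i) hr2, i, by simp, hr2⟩
  · intro a ha b hb e
    rw [List.mem_toFinset, List.mem_filter, List.mem_range] at ha hb
    exact vec_inj hp ha.1 hb.1 e
  · intro x hx
    rw [← Finset.mem_coe, hsc] at hx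
    obtain ⟨h6, -, k, hk, hk0⟩ := hx
    obtain ⟨ρ, hρ, rfl⟩ := (isRoot_iff hp cs x).1 h6
    have hki : k = i := by
      by_contra hne
      exact hk (by simpa using hne)
    subst hki
    refine ⟨ρ, ?_, rfl⟩
    rw [List.mem_toFinset, List.mem_filter, List.mem_range]
    exact ⟨hρ, by simpa [vec_apply] using hk0⟩

/-- the condition on the exponents: all exponents on `V_j` are 1 or 2 -/
def Chk (D : ChevalleyDatum) (c : List ℤ) (j : ℕ) : Bool :=
  (List.range D.nroots).all fun ρ => decide (0 < rt D ρ j → expo D (fun i => c.getD i 0) ρ = 1 ∨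
    expo D (fun i => c.getD i 0) ρ = 2)

/-- **T1 for the torus elements of a Chevalley group.** -/
theorem vz_tor [Fintype K] (r : ℕ) [Fact r.Prime] [CharP K r] (hW : Finite M.Group) {j k : Fin l}
    (hK : H53.HC.In hp.isCartan (XX D l K) {k}ᶜ) (hn : num D j ≠ num D k) {c : List ℤ} (hc : Chk D c j = true)
    {s : Kˣ} (hs : s ≠ 1) (hs2 : s ^ 2 ≠ 1) : H713.VZ ↥(D.group K) (torG hp (fun i => c.getD i 0) s) := by
  classical
  have : Finite ↥(D.group K) := H53.HC.ExcRows.finite_group (K := K) D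
  have R := rgd (K := K) hp M.toCoxeterSystem r
  refine vz_of_torus (K := {k}ᶜ) (J := {j}ᶜ) R (GG_eq_top hp K M.toCoxeterSystem) hK (Or.inr ⟨?_, ?_⟩)
    (torG_mem hp _ s) ?_
  · rw [Set.ncard_compl, Set.ncard_compl, Set.ncard_singleton, Set.ncard_singleton]
  · have h1 := card_VJ_eq hp (K := K) M.toCoxeterSystem r j
    have h2 := card_VJ_eq hp (K := K) M.toCoxeterSystem r k
    rw [h1, h2]
    intro h3
    exact hn (Nat.pow_right_injective (Fintype.one_lt_card (α := K)) h3)
  · rintro x ⟨hx, -, i, hi, hi0⟩ u hu hcu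
    obtain ⟨ρ, hρ, rfl⟩ := (isRoot_iff hp M.toCoxeterSystem x).1 hx
    have hij : i = j := by
      by_contra hne
      exact hi (by simpa using hne)
    subst hij
    have hu' : (u : GL D.Idx K) ∈ D.rootSubgroup K ρ := by
      rw [← XV_vec hp K hρ]
      exact hu
    obtain ⟨a, ha⟩ := (mem_rootSubgroup_iff hp.inList ρ _).1 hu'
    have h1 : xG hp.inList ρ (((s ^ expo D (fun i => c.getD i 0) ρ : Kˣ) : K) * a) = xG hp.inList ρ a := by
      have h2 := tor_mul_xG hp.inList (fun i => c.getD i 0) s hρ a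
      have h3 : tor hp.inList (fun i => c.getD i 0) s * (u : GL D.Idx K) =
          (u : GL D.Idx K) * tor hp.inList (fun i => c.getD i 0) s := congrArg Subtype.val hcu
      rw [ha, h2] at h3
      exact mul_right_cancel h3
    have h4 := xG_injective hp.inList hρ h1
    have h5 : (((s ^ expo D (fun i => c.getD i 0) ρ : Kˣ) : K) - 1) * a = 0 := by linear_combination h4
    have h6 : s ^ expo D (fun i => c.getD i 0) ρ ≠ 1 := by
      have h7 := List.all_eq_true.1 hc ρ (List.mem_range.2 hρ)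
      rcases of_decide_eq_true h7 (by simpa [vec_apply] using hi0) with h8 | h8
      · rw [h8, zpow_one]; exact hs
      · rw [h8]
        intro h9
        exact hs2 (by exact_mod_cast h9)
    rcases mul_eq_zero.1 h5 with h7 | h7
    · exfalso
      apply h6
      apply Units.ext
      rw [Units.val_one]
      exact sub_eq_zero.1 h7
    · subst h7
      apply Subtype.ext
      rw [ha, xG_zero]
      rfl

/-- elements of the torus of order a power of `p` -/
theorem exists_unit_order {F : Type*} [Field F] [Fintype F] {p : ℕ} [hp : Fact p.Prime] (hd : p ∣ Fintype.card F - 1) :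
    ∃ s : Fˣ, orderOf s = p := by
  classical
  have hc : p ∣ Fintype.card Fˣ := by
    rw [Fintype.card_units]; exact hd
  exact exists_prime_orderOf_dvd_card p hc

theorem exists_unit_four {F : Type*} [Field F] [Fintype F] (hd : 4 ∣ Fintype.card F - 1) : ∃ s : Fˣ, orderOf s = 4 := by
  classical
  obtain ⟨g, hg⟩ := IsCyclic.exists_generator (α := Fˣ)
  have h1 : orderOf g = Fintype.card F - 1 := by
    rw [orderOf_eq_card_of_forall_mem_zpowers hg, Nat.card_eq_fintype_card, Fintype.card_units]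
  obtain ⟨m, hm⟩ := hd
  have hpos : 0 < Fintype.card F - 1 := by
    have := Fintype.one_lt_card (α := F)
    omega
  refine ⟨g ^ m, ?_⟩
  have hm0 : m ≠ 0 := by
    rintro rfl
    omega
  rw [orderOf_pow_of_dvd hm0 (by rw [h1, hm]; exact Dvd.intro_left 4 rfl), h1, hm]
  exact Nat.mul_div_cancel _ (Nat.pos_of_ne_zero hm0)

open Cfsg.Agent.H620.PNorm

theorem eq_one_of_center {G : Type*} [Group G] [hs : IsSimpleGroup G] (hna : ∃ a b : G, a * b ≠ b * a) {z : G}
    (h1 : z ∈ Subgroup.center G) : z = 1 := by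
  have h2 : Subgroup.center G = ⊥ := by
    rcases (inferInstance : (Subgroup.center G).Normal).eq_bot_or_eq_top with h3 | h3
    · exact h3
    · exfalso
      obtain ⟨a, b, hab⟩ := hna
      have h4 : b ∈ Subgroup.center G := by rw [h3]; trivial
      exact hab (Subgroup.mem_center_iff.1 h4 a)
  rw [h2, Subgroup.mem_bot] at h1
  exact h1

/-- the order of the torus element -/
theorem orderOf_torG [hs : IsSimpleGroup ↥(D.group K)] (hna : ∃ a b : ↥(D.group K), a * b ≠ b * a) (c : ℕ → ℤ) (s : Kˣ)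
    {m : ℕ} (hm : s ^ m = 1) : torG hp c s ^ m = 1 := eq_one_of_center hna (torG_pow_center hp c s hm)

theorem vOrdP_of_pow {G : Type*} [Group G] [Finite G] {p : ℕ} [hpp : Fact p.Prime] {x : G} (hx : x ^ p = 1)
    (hvz : H713.VZ G x) : VOrdP p G := by
  refine ⟨_, orderOf_eq_prime hx ?_, hvz⟩
  intro h3
  rw [h3] at hvz
  obtain ⟨θ, hθ⟩ := hvz
  have h4 := hθ 1
  exact (Cfsg.Agent.Characters.Core.isIrr_apply_one_ne_zero θ.2) (by simpa using h4)

theorem vPow_two_of_pow {G : Type*} [Group G] {x : G} (hx : x ^ 4 = 1) (hvz : H713.VZ G x) : VPow 2 G := by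
  refine ⟨_, ?_, hvz⟩
  have h3 : orderOf x ∣ 2 ^ 2 := orderOf_dvd_of_pow_eq_one (by rw [show 2 ^ 2 = 4 by norm_num, hx])
  obtain ⟨k, -, hk⟩ := (Nat.dvd_prime_pow Nat.prime_two).1 h3
  exact ⟨k, hk⟩

include hp in
theorem exists_ne {j : Fin l} {c : List ℤ} (hc : Chk D c j = true) {s : Kˣ} (hs : s ≠ 1) (hs2 : s ^ 2 ≠ 1) :
    ∃ a b : ↥(D.group K), a * b ≠ b * a := by
  have hρ := simple_lt hp.inList (lt_rank hp j)
  refine ⟨torG hp (fun i => c.getD i 0) s, ⟨xG hp.inList (D.simple j) 1, xG_mem_group _ _ _⟩, fun h0 => ?_⟩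
  have h1 : xG hp.inList (D.simple j) (((s ^ expo D (fun i => c.getD i 0) (D.simple j) : Kˣ) : K) * 1) =
      xG hp.inList (D.simple j) 1 := by
    have h2 := tor_mul_xG hp.inList (fun i => c.getD i 0) s hρ 1
    have h3 : tor hp.inList (fun i => c.getD i 0) s * xG hp.inList (D.simple j) 1 =
        xG hp.inList (D.simple j) 1 * tor hp.inList (fun i => c.getD i 0) s := congrArg Subtype.val h0
    rw [h2] at h3
    exact mul_right_cancel h3
  have h4 := xG_injective hp.inList hρ h1
  rw [mul_one] at h4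
  have h7 := List.all_eq_true.1 hc _ (List.mem_range.2 hρ)
  have h8 : 0 < rt D (D.simple j) j := by
    have h9 := congrFun (vec_simple hp j) j
    rw [vec_apply, sr_self] at h9
    rw [h9]
    norm_num
  rcases of_decide_eq_true h7 h8 with h9 | h9
  · rw [h9, zpow_one] at h4
    exact hs (Units.ext h4)
  · rw [h9] at h4
    have h10 : s ^ (2 : ℤ) = 1 := Units.ext h4
    exact hs2 (by exact_mod_cast h10)

theorem unit_ne {p : ℕ} [hpp : Fact p.Prime] (h2 : p ≠ 2) {F : Type*} [Monoid F] {s : F} (hsp : orderOf s = p) :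
    s ≠ 1 ∧ s ^ 2 ≠ 1 := by
  constructor
  · rintro rfl
    rw [orderOf_one] at hsp
    exact hpp.out.one_lt.ne hsp
  · intro h3
    have h4 := orderOf_dvd_of_pow_eq_one h3
    rw [hsp] at h4
    exact h2 ((Nat.prime_dvd_prime_iff_eq hpp.out Nat.prime_two).1 h4)

theorem unit_ne_four {F : Type*} [Monoid F] {s : F} (hsp : orderOf s = 4) : s ≠ 1 ∧ s ^ 2 ≠ 1 := by
  constructor
  · rintro rfl
    rw [orderOf_one] at hsp
    omega
  · intro h3
    have h4 := orderOf_dvd_of_pow_eq_one h3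
    rw [hsp] at h4
    omega

/-- **`p` odd, `p ∣ q - 1`.** -/
theorem vOrdP_tor [Fintype K] (r : ℕ) [Fact r.Prime] [CharP K r] (hW : Finite M.Group) [hs : IsSimpleGroup ↥(D.group K)]
    {j k : Fin l} (hK : H53.HC.In hp.isCartan (XX D l K) {k}ᶜ)
    (hn : num D j ≠ num D k) {c : List ℤ} (hc : Chk D c j = true) {p : ℕ} [hpp : Fact p.Prime] (h2 : p ≠ 2)
    (hd : p ∣ Fintype.card K - 1) : VOrdP p ↥(D.group K) := by
  have : Finite ↥(D.group K) := H53.HC.ExcRows.finite_group (K := K) D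
  obtain ⟨s, hsp⟩ := exists_unit_order hd
  obtain ⟨hs1, hs2⟩ := unit_ne h2 hsp
  exact vOrdP_of_pow (orderOf_torG hp (exists_ne hp hc hs1 hs2) _ s (by rw [← hsp, pow_orderOf_eq_one]))
    (vz_tor hp r hW hK hn hc hs1 hs2)

/-- **`p = 2`, `4 ∣ q - 1`.** -/
theorem vPow_tor [Fintype K] (r : ℕ) [Fact r.Prime] [CharP K r] (hW : Finite M.Group) [hs : IsSimpleGroup ↥(D.group K)]
    {j k : Fin l} (hK : H53.HC.In hp.isCartan (XX D l K) {k}ᶜ)
    (hn : num D j ≠ num D k) {c : List ℤ} (hc : Chk D c j = true) (hd : 4 ∣ Fintype.card K - 1) :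
    VPow 2 ↥(D.group K) := by
  obtain ⟨s, hsp⟩ := exists_unit_four hd
  obtain ⟨hs1, hs2⟩ := unit_ne_four hsp
  exact vPow_two_of_pow (orderOf_torG hp (exists_ne hp hc hs1 hs2) _ s (by rw [← hsp, pow_orderOf_eq_one]))
    (vz_tor hp r hW hK hn hc hs1 hs2)

end Cfsg.Agent.H526.Van
end

private theorem dce_cc1b1ee1aba5 : _root_.True := by
  try have : _root_.True := by simp only [_root_.Cfsg.Agent.H526.Van.torL.congr_simp]
  exact _root_.True.intro
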